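import Groth.Agent.LG8.Basic
import Groth.Agent.CSA8.Simple
import Groth.Agent.CSA.Azumaya
import Groth.Agent.Dix.Azumaya

set_option autoImplicit false
universe u v w v' w'

open scoped TensorProduct

namespace Groth.Agent.LG8

/-- over a simple algebra, a module of bigger dimension surjects onto one of smaller dimension -/
theorem exists_surjective_of_finrank_le (k : Type u) [Field k] (S : Type v) [Ring S] [Algebra k S] [IsSimpleRing S]
    [FiniteDimensional k S] (M : Type w) [AddCommGroup M] [Module k M] [Module S M] [IsScalarTower k S M] [FiniteDimensional k M]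
    (N : Type w') [AddCommGroup N] [Module k N] [Module S N] [IsScalarTower k S N]
    [FiniteDimensional k N] (h : Module.finrank k N ≤ Module.finrank k M) : ∃ f : M →ₗ[S] N, Function.Surjective f := by
  classical
  have : IsArtinianRing S := .of_finite k S
  have : Module.Finite S M := .of_restrictScalars_finite k S M
  have : Module.Finite S N := .of_restrictScalars_finite k S N
  rcases subsingleton_or_nontrivial N with hN | hN
  · exact ⟨0, fun y => ⟨0, Subsingleton.elim _ _⟩⟩
  · have : Nontrivial M := Module.nontrivial_of_finrank_pos (R := k) (lt_of_lt_of_le Module.finrank_pos h)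
    obtain ⟨n, hn, A, hA, ⟨e⟩⟩ := (IsSimpleRing.isIsotypic S M).linearEquiv_fun
    obtain ⟨m, hm, B, hB, ⟨e'⟩⟩ := (IsSimpleRing.isIsotypic S N).linearEquiv_fun
    obtain ⟨f⟩ := CSA8.simple_iso k S A B
    have h1 := (e.restrictScalars k).finrank_eq
    have h2 := (e'.restrictScalars k).finrank_eq
    have : FiniteDimensional k A := Module.Finite.of_injective ((A.subtype).restrictScalars k) Subtype.val_injective
    have : FiniteDimensional k B := Module.Finite.of_injective ((B.subtype).restrictScalars k) Subtype.val_injective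
    rw [Module.finrank_pi_fintype, Finset.sum_const, smul_eq_mul, Finset.card_univ, Fintype.card_fin] at h1 h2
    rw [← (f.restrictScalars k).finrank_eq] at h2
    have : Nontrivial A := IsSimpleModule.nontrivial S A
    have hle : m ≤ n := Nat.le_of_mul_le_mul_right (h2.symm.le.trans (h.trans h1.le)) (Module.finrank_pos (R := k) (M := A))
    refine ⟨(e'.symm.toLinearMap.comp (LinearEquiv.piCongrRight fun _ => f).toLinearMap).comp
      ((LinearMap.funLeft S A (Fin.castLE hle)).comp e.toLinearMap), ?_⟩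
    exact (e'.symm.surjective.comp (LinearEquiv.piCongrRight fun _ => f).surjective).comp
      ((LinearMap.funLeft_surjective_of_injective (R := S) (M := A) _ (Fin.castLE_injective hle)).comp e.surjective)

variable {R : Type u} [CommRing R]

theorem finite_projective_restrict (A : Type v) [Ring A] [Algebra R A] [Module.Finite R A] [Module.Projective R A]
    (M : Type w) [AddCommGroup M] [Module A M] [Module R M] [IsScalarTower R A M] [Module.Finite A M] [Module.Projective A M] :
    Module.Finite R M ∧ Module.Projective R M := by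
  refine ⟨Module.Finite.trans A M, ?_⟩
  obtain ⟨k, π, hπ⟩ := Module.Finite.exists_fin' A M
  obtain ⟨σ, hσ⟩ := Module.projective_lifting_property π LinearMap.id hπ
  haveI : Module.Projective R (Fin k → A) := Module.Projective.of_equiv (TensorProduct.piScalarRight R R A (Fin k))
  refine Module.Projective.of_split (σ.restrictScalars R) (π.restrictScalars R) ?_
  exact LinearMap.ext fun x => LinearMap.congr_fun hσ x

/-- maps out of a finitely generated projective module from the images of generators -/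
noncomputable def homOfGens {A : Type v} [Ring A] [Algebra R A] {M : Type w} [AddCommGroup M] [Module A M]
    {N : Type w'} [AddCommGroup N] [Module A N] [Module R N] [IsScalarTower R A N] {k : ℕ} (σ : M →ₗ[A] (Fin k → A))
    (y : Fin k → N) : M →ₗ[A] N :=
  ∑ i, ((LinearMap.proj i).comp σ).smulRight (y i)

theorem homOfGens_apply {A : Type v} [Ring A] [Algebra R A] {M : Type w} [AddCommGroup M] [Module A M]
    {N : Type w'} [AddCommGroup N] [Module A N] [Module R N] [IsScalarTower R A N] {k : ℕ} (σ : M →ₗ[A] (Fin k → A))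
    (y : Fin k → N) (x : M) : homOfGens (R := R) σ y x = ∑ i, σ x i • y i := by
  simp [homOfGens, LinearMap.sum_apply]

theorem homOfGens_sum {A : Type v} [Ring A] [Algebra R A] {M : Type w} [AddCommGroup M] [Module A M] [Module R M]
    [IsScalarTower R A M] {N : Type w'} [AddCommGroup N] [Module A N] [Module R N] [IsScalarTower R A N] {k K : ℕ}
    (σ : M →ₗ[A] (Fin k → A)) (gen : (Fin K → R) →ₗ[R] (Fin k → N)) (c : Fin K → R) :
    (∑ l, c l • (homOfGens (R := R) σ (gen (Pi.single l 1))).restrictScalars R) =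
      (homOfGens (R := R) σ (gen c)).restrictScalars R := by
  refine LinearMap.ext fun x => ?_
  simp only [LinearMap.sum_apply, LinearMap.smul_apply, LinearMap.restrictScalars_apply, homOfGens_apply]
  conv_rhs => rw [pi_eq_sum_univ' c, map_sum]
  simp only [map_smul, Finset.sum_apply, Pi.smul_apply, Finset.smul_sum]
  rw [Finset.sum_comm]
  exact Finset.sum_congr rfl fun i _ => Finset.sum_congr rfl fun l _ => (smul_comm _ _ _)

theorem exists_linear_surjective (hR : LGRing.IsLGRing R) (A : Type v) [Ring A] [Algebra R A] [IsAzumaya R A]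
    (M : Type w) [AddCommGroup M] [Module A M] [Module R M] [IsScalarTower R A M] [Module.Finite A M] [Module.Projective A M]
    (N : Type w') [AddCommGroup N] [Module A N] [Module R N] [IsScalarTower R A N] [Module.Finite A N] [Module.Projective A N]
    (h : ∀ (m : Ideal R) (hm : m.IsMaximal), Module.rankAtStalk (R := R) N ⟨m, hm.isPrime⟩ ≤ Module.rankAtStalk (R := R) M ⟨m, hm.isPrime⟩) :
    ∃ f : M →ₗ[A] N, Function.Surjective f := by
  classical
  obtain ⟨_, _⟩ := finite_projective_restrict (R := R) A M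
  obtain ⟨_, _⟩ := finite_projective_restrict (R := R) A N
  obtain ⟨k, π, hπ⟩ := Module.Finite.exists_fin' A M
  obtain ⟨σ, hσ⟩ := Module.projective_lifting_property π LinearMap.id hπ
  obtain ⟨K, gen, hgen⟩ := Module.Finite.exists_fin' R (Fin k → N)
  obtain ⟨c, hc⟩ := exists_surjective hR (fun l => (homOfGens (R := R) σ (gen (Pi.single l 1))).restrictScalars R) fun m hm => by
    letI : Field (R ⧸ m) := Ideal.Quotient.field m
    haveI : Nontrivial ((R ⧸ m) ⊗[R] A) := by
      apply Module.nontrivial_of_finrank_pos (R := R ⧸ m)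
      rw [rank_quot]; exact rank_pos A _
    obtain ⟨_, _⟩ := Dix.Azumaya.fibre_centralSimple R A (R ⧸ m)
    let lM : A →ₐ[R] Module.End (R ⧸ m) ((R ⧸ m) ⊗[R] M) := (Module.End.baseChangeHom R (R ⧸ m) M).comp (Algebra.lsmul R R M)
    let lN : A →ₐ[R] Module.End (R ⧸ m) ((R ⧸ m) ⊗[R] N) := (Module.End.baseChangeHom R (R ⧸ m) N).comp (Algebra.lsmul R R N)
    let ρM : (R ⧸ m) ⊗[R] A →ₐ[R ⧸ m] Module.End (R ⧸ m) ((R ⧸ m) ⊗[R] M) :=
      Algebra.TensorProduct.lift (Algebra.ofId (R ⧸ m) _) lM fun a b => Algebra.commutes a (lM b)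
    let ρN : (R ⧸ m) ⊗[R] A →ₐ[R ⧸ m] Module.End (R ⧸ m) ((R ⧸ m) ⊗[R] N) :=
      Algebra.TensorProduct.lift (Algebra.ofId (R ⧸ m) _) lN fun a b => Algebra.commutes a (lN b)
    have hle : Module.finrank (R ⧸ m) (CSA8.Via (R ⧸ m) ρN) ≤ Module.finrank (R ⧸ m) (CSA8.Via (R ⧸ m) ρM) := by
      show Module.finrank (R ⧸ m) ((R ⧸ m) ⊗[R] N) ≤ Module.finrank (R ⧸ m) ((R ⧸ m) ⊗[R] M)
      rw [rank_quot, rank_quot]; exact h m hm
    obtain ⟨ψ, hψ⟩ := exists_surjective_of_finrank_le (R ⧸ m) ((R ⧸ m) ⊗[R] A) (CSA8.Via (R ⧸ m) ρM) (CSA8.Via (R ⧸ m) ρN) hle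
    let ψ' : (R ⧸ m) ⊗[R] M →ₗ[R ⧸ m] (R ⧸ m) ⊗[R] N := (ψ.restrictScalars (R ⧸ m) : _)
    have hψ' : ∀ (a : A) z, ψ' (lM a z) = lN a (ψ' z) := fun a z => by
      have := ψ.map_smul ((1 : R ⧸ m) ⊗ₜ[R] a) z
      change ψ' (ρM ((1 : R ⧸ m) ⊗ₜ[R] a) z) = ρN ((1 : R ⧸ m) ⊗ₜ[R] a) (ψ' z) at this
      simpa [ρM, ρN] using this
    choose y hy using fun i : Fin k => TensorProduct.mk_surjective R N (R ⧸ m) Ideal.Quotient.mk_surjective
      (ψ' ((1 : R ⧸ m) ⊗ₜ[R] π (Pi.single i 1)))
    obtain ⟨c, hc⟩ := hgen y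
    refine ⟨c, ?_⟩
    rw [homOfGens_sum, hc]
    refine lift_mod m _ fun w => ?_
    obtain ⟨z, hz⟩ := hψ ((1 : R ⧸ m) ⊗ₜ[R] w : (R ⧸ m) ⊗[R] N)
    obtain ⟨x, hx⟩ := TensorProduct.mk_surjective R M (R ⧸ m) Ideal.Quotient.mk_surjective z
    refine ⟨x, ?_⟩
    refine Eq.trans ?_ hz
    show _ = ψ' z
    rw [← hx, TensorProduct.mk_apply, LinearMap.restrictScalars_apply, homOfGens_apply, TensorProduct.tmul_sum]
    have hlM : ∀ (a : A) (u : M), lM a ((1 : R ⧸ m) ⊗ₜ[R] u) = (1 : R ⧸ m) ⊗ₜ[R] (a • u) := fun a u => by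
      show (Algebra.lsmul R R M a).baseChange (R ⧸ m) ((1 : R ⧸ m) ⊗ₜ[R] u) = _
      rw [LinearMap.baseChange_tmul]; rfl
    have hlN : ∀ (a : A) (u : N), lN a ((1 : R ⧸ m) ⊗ₜ[R] u) = (1 : R ⧸ m) ⊗ₜ[R] (a • u) := fun a u => by
      show (Algebra.lsmul R R N a).baseChange (R ⧸ m) ((1 : R ⧸ m) ⊗ₜ[R] u) = _
      rw [LinearMap.baseChange_tmul]; rfl
    conv_rhs => rw [← show π (σ x) = x from LinearMap.congr_fun hσ x, pi_eq_sum_univ' (σ x), map_sum, TensorProduct.tmul_sum, map_sum]
    refine Finset.sum_congr rfl fun i _ => ?_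
    rw [← hlN, map_smul, ← hlM, hψ', ← hy, TensorProduct.mk_apply]
  refine ⟨homOfGens (R := R) σ (gen c), ?_⟩
  rw [homOfGens_sum] at hc
  exact hc

end Groth.Agent.LG8
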