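import Groth.Prelude.Def_W4c4lgringredgrpLG
import Mathlib

set_option autoImplicit false
universe u v w

open scoped TensorProduct

namespace Groth.Agent.LG8

variable {R : Type u} [CommRing R]

theorem exists_span (hR : LGRing.IsLGRing R) {n : ℕ} {J : Type*} [Fintype J] (f : J → MvPolynomial (Fin n) R)
    (h : ∀ (m : Ideal R) [m.IsMaximal], ∃ (x : Fin n → R) (j : J), MvPolynomial.eval x (f j) ∉ m) :
    ∃ x : Fin n → R, Ideal.span (Set.range fun j => MvPolynomial.eval x (f j)) = ⊤ := by
  classical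
  let e := Fintype.equivFin J
  let N := Fintype.card J
  let g : MvPolynomial (Fin (n + N)) R :=
    ∑ j, MvPolynomial.X (Fin.natAdd n (e j)) * MvPolynomial.rename (Fin.castAdd N) (f j)
  have hg : ∀ (S : Type u) [CommRing S] [Algebra R S] (x : Fin (n + N) → S),
      MvPolynomial.aeval x g = ∑ j, x (Fin.natAdd n (e j)) * MvPolynomial.aeval (fun i => x (Fin.castAdd N i)) (f j) := by
    intro S _ _ x
    simp [g, MvPolynomial.aeval_rename, Function.comp_def]
  obtain ⟨s, hs⟩ := hR (n + N) g fun m hm => by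
    obtain ⟨x, j, hj⟩ := h m
    refine ⟨Fin.append (fun i => Ideal.Quotient.mk m (x i)) (Pi.single (e j) 1), ?_⟩
    rw [hg, Finset.sum_eq_single j (fun b _ hb => by simp [Fin.append_right, Pi.single_eq_of_ne (e.injective.ne hb)]) (by simp)]
    simp only [Fin.append_right, Fin.append_left, Pi.single_eq_same, one_mul]
    letI : Field (R ⧸ m) := Ideal.Quotient.field m
    refine isUnit_iff_ne_zero.mpr ?_
    rw [show (MvPolynomial.aeval fun i => Ideal.Quotient.mk m (x i)) (f j) = Ideal.Quotient.mk m (MvPolynomial.eval x (f j)) by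
      rw [← MvPolynomial.aeval_eq_eval]; exact (MvPolynomial.comp_aeval_apply x (Ideal.Quotient.mkₐ R m) (f j)).symm]
    exact fun h0 => hj (Ideal.Quotient.eq_zero_iff_mem.mp h0)
  refine ⟨fun i => s (Fin.castAdd N i), Ideal.eq_top_of_isUnit_mem _ ?_ hs⟩
  rw [hg]
  exact sum_mem fun j _ => Ideal.mul_mem_left _ _ (Ideal.subset_span ⟨j, by simp [MvPolynomial.aeval_eq_eval]⟩)

theorem range_top_of_minors {q r : ℕ} (Φ : Matrix (Fin q) (Fin r) R)
    (h : Ideal.span (Set.range fun c : Fin q → Fin r => (Φ.submatrix id c).det) = ⊤) :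
    LinearMap.range Φ.mulVecLin = ⊤ := by
  classical
  rw [eq_top_iff]
  intro y _
  have : ∀ d ∈ Ideal.span (Set.range fun c : Fin q → Fin r => (Φ.submatrix id c).det), d • y ∈ LinearMap.range Φ.mulVecLin := by
    intro d hd
    induction hd using Submodule.span_induction with
    | mem d hd =>
      obtain ⟨c, rfl⟩ := hd
      refine ⟨((1 : Matrix (Fin r) (Fin r) R).submatrix id c).mulVec ((Φ.submatrix id c).adjugate.mulVec y), ?_⟩
      rw [Matrix.mulVecLin_apply, Matrix.mulVec_mulVec, Matrix.mulVec_mulVec]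
      have hsub : Φ * (1 : Matrix (Fin r) (Fin r) R).submatrix id c = Φ.submatrix id c := by
        ext i j; simp [Matrix.mul_apply, Matrix.one_apply]
      rw [hsub, Matrix.mul_adjugate, Matrix.smul_mulVec, Matrix.one_mulVec]
    | zero => rw [zero_smul]; exact zero_mem _
    | add a b _ _ ha hb => rw [add_smul]; exact add_mem ha hb
    | smul a d _ hd => rw [smul_assoc]; exact Submodule.smul_mem _ a hd
  simpa using this 1 (by rw [h]; trivial)

theorem exists_minor {q r : ℕ} {k : Type*} [Field k] (Φ : Matrix (Fin q) (Fin r) k)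
    (h : LinearMap.range Φ.mulVecLin = ⊤) : ∃ c : Fin q → Fin r, (Φ.submatrix id c).det ≠ 0 := by
  classical
  have hspan : Submodule.span k (Set.range Φ.col) = ⊤ := by rw [← Matrix.range_mulVecLin]; exact h
  obtain ⟨b, hb, hbspan, hbli⟩ := exists_linearIndependent k (Set.range Φ.col)
  haveI : Fintype b := ((Set.finite_range Φ.col).subset hb).fintype
  have hcard : Fintype.card b = q := by
    have := finrank_span_eq_card (R := k) (b := fun x : b => (x : Fin q → k)) hbli
    rw [Subtype.range_coe, hbspan, hspan, finrank_top, Module.finrank_fin_fun] at this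
    omega
  let eb : Fin q ≃ b := (Fintype.equivFinOfCardEq hcard).symm
  choose c hc using fun j : Fin q => hb (eb j).2
  refine ⟨c, ?_⟩
  rw [← isUnit_iff_ne_zero, ← Matrix.isUnit_iff_isUnit_det, ← Matrix.linearIndependent_cols_iff_isUnit]
  have : (Φ.submatrix id c).col = fun j => ((eb j : b) : Fin q → k) := funext fun j => by rw [← hc j]; rfl
  rw [this]
  exact hbli.comp eb eb.injective

theorem mem_smul_top_of_tmul_eq_zero (m : Ideal R) {N : Type*} [AddCommGroup N] [Module R N] {z : N}
    (h : (1 : R ⧸ m) ⊗ₜ[R] z = 0) : z ∈ m • (⊤ : Submodule R N) := by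
  have h2 := congrArg (TensorProduct.quotTensorEquivQuotSMul N m) h
  rw [map_zero, ← map_one (Ideal.Quotient.mk m), TensorProduct.quotTensorEquivQuotSMul_mk_tmul,
    one_smul, Submodule.Quotient.mk_eq_zero] at h2
  exact h2

theorem exists_surjective (hR : LGRing.IsLGRing R) {M : Type v} [AddCommGroup M] [Module R M] [Module.Finite R M]
    {N : Type w} [AddCommGroup N] [Module R N] [Module.Finite R N] [Module.Projective R N] {K : ℕ}
    (h : Fin K → M →ₗ[R] N)
    (hm : ∀ (m : Ideal R) [m.IsMaximal], ∃ x : Fin K → R,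
      ⊤ ≤ LinearMap.range (∑ l, x l • h l) ⊔ m • (⊤ : Submodule R N)) :
    ∃ x : Fin K → R, Function.Surjective ⇑((∑ l, x l • h l : M →ₗ[R] N)) := by
  classical
  obtain ⟨q, π, hπ⟩ := Module.Finite.exists_fin' R N
  obtain ⟨s, hs⟩ := Module.projective_lifting_property π LinearMap.id hπ
  obtain ⟨p, g, hg⟩ := Module.Finite.exists_fin' R M
  let P : Fin K → Matrix (Fin q) (Fin p) R := fun l => LinearMap.toMatrix' (s ∘ₗ h l ∘ₗ g)
  let Cq : Matrix (Fin q) (Fin q) R := 1 - LinearMap.toMatrix' (s ∘ₗ π)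
  have hsπ : ∀ y, π (s y) = y := fun y => LinearMap.congr_fun hs y
  let Φ : (Fin K → R) → Matrix (Fin q) (Fin (p + q)) R := fun x =>
    Matrix.of fun i j => Fin.append (fun a => (∑ l, x l • P l) i a) (fun b => Cq i b) j
  let ΦX : Matrix (Fin q) (Fin (p + q)) (MvPolynomial (Fin K) R) :=
    Matrix.of fun i j => Fin.append (fun a => ∑ l, MvPolynomial.X l * MvPolynomial.C (P l i a))
      (fun b => MvPolynomial.C (Cq i b)) j
  have hev : ∀ x (c : Fin q → Fin (p + q)), MvPolynomial.eval x (ΦX.submatrix id c).det = ((Φ x).submatrix id c).det := by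
    intro x c
    rw [RingHom.map_det]
    congr 1
    ext i j
    simp only [RingHom.mapMatrix_apply, Matrix.map_apply, Matrix.submatrix_apply, ΦX, Φ, Matrix.of_apply, id_eq]
    induction c j using Fin.addCases <;> simp [Matrix.sum_apply]
  have happly : ∀ x (a : Fin p → R) (b : Fin q → R),
      (Φ x).mulVec (Fin.append a b) = s ((∑ l, x l • h l) (g a)) + (b - s (π b)) := by
    intro x a b
    funext i
    have e1 : (∑ l, x l • P l).mulVec a = s ((∑ l, x l • h l) (g a)) := by
      simp only [P, Matrix.sum_mulVec, Matrix.smul_mulVec, LinearMap.toMatrix'_mulVec, LinearMap.comp_apply,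
        LinearMap.sum_apply, LinearMap.smul_apply, map_sum, map_smul]
    have e2 : Cq.mulVec b = b - s (π b) := by
      simp only [Cq, Matrix.sub_mulVec, Matrix.one_mulVec, LinearMap.toMatrix'_mulVec, LinearMap.comp_apply]
    rw [Pi.add_apply, ← congrFun e1 i, ← congrFun e2 i]
    simp only [Matrix.mulVec, dotProduct, Φ, Matrix.of_apply, Fin.sum_univ_add, Fin.append_left, Fin.append_right]
  obtain ⟨x, hx⟩ := exists_span hR (fun c : Fin q → Fin (p + q) => (ΦX.submatrix id c).det) fun m hmax => by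
    obtain ⟨x, hx⟩ := hm m
    letI : Field (R ⧸ m) := Ideal.Quotient.field m
    have hsurj : LinearMap.range ((Φ x).map (Ideal.Quotient.mk m)).mulVecLin = ⊤ := by
      rw [eq_top_iff]
      intro y' _
      choose y hy using fun i => Ideal.Quotient.mk_surjective (I := m) (y' i)
      obtain ⟨n₁, ⟨a₀, ha₀⟩, n₂, hn₂, hn⟩ := Submodule.mem_sup.mp (hx (show π y ∈ ⊤ from trivial))
      obtain ⟨a, ha⟩ := hg a₀
      refine ⟨fun j => Ideal.Quotient.mk m (Fin.append a y j), funext fun i => ?_⟩
      rw [Matrix.mulVecLin_apply, show (fun j => Ideal.Quotient.mk m (Fin.append a y j)) = Ideal.Quotient.mk m ∘ Fin.append a y from rfl,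
        ← RingHom.map_mulVec, happly, ha, ha₀, ← hy i, Ideal.Quotient.eq]
      have hmem : ∀ z ∈ m • (⊤ : Submodule R N), (s z) i ∈ m := fun z hz => by
        induction hz using Submodule.smul_induction_on' with
        | smul c hc z _ => rw [map_smul, Pi.smul_apply, smul_eq_mul]; exact m.mul_mem_right _ hc
        | add z z' _ _ hz hz' => rw [map_add, Pi.add_apply]; exact m.add_mem hz hz'
      rw [← hn, map_add]
      simp only [Pi.add_apply, Pi.sub_apply]
      have := m.neg_mem (hmem n₂ hn₂)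
      convert this using 1
      ring
    obtain ⟨c, hc⟩ := exists_minor _ hsurj
    refine ⟨x, c, fun h0 => hc ?_⟩
    rw [hev] at h0
    have : ((Φ x).map (Ideal.Quotient.mk m)).submatrix id c = ((Φ x).submatrix id c).map (Ideal.Quotient.mk m) := rfl
    rw [this, ← RingHom.mapMatrix_apply, ← RingHom.map_det]
    exact Ideal.Quotient.eq_zero_iff_mem.mpr h0
  simp only [hev] at hx
  refine ⟨x, fun y => ?_⟩
  obtain ⟨v, hv⟩ : s y ∈ LinearMap.range (Φ x).mulVecLin := by rw [range_top_of_minors _ hx]; trivial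
  obtain ⟨a, b, rfl⟩ : ∃ a b, v = Fin.append a b :=
    ⟨fun i => v (Fin.castAdd q i), fun i => v (Fin.natAdd p i), funext fun j => by induction j using Fin.addCases <;> simp⟩
  rw [Matrix.mulVecLin_apply, happly] at hv
  have := congrArg π hv
  rw [map_add, map_sub, hsπ, hsπ, hsπ, sub_self, add_zero] at this
  exact ⟨g a, this⟩

theorem rank_quot (M : Type v) [AddCommGroup M] [Module R M] [Module.Finite R M] [Module.Flat R M] (m : Ideal R) [hm : m.IsMaximal] :
    Module.finrank (R ⧸ m) ((R ⧸ m) ⊗[R] M) = Module.rankAtStalk M ⟨m, hm.isPrime⟩ := by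
  letI : Field (R ⧸ m) := Ideal.Quotient.field m
  let z : PrimeSpectrum (R ⧸ m) := ⟨⊥, Ideal.isPrime_bot⟩
  have h1 := Module.rankAtStalk_baseChange (R := R) (M := M) z
  rw [Module.rankAtStalk_eq_finrank_of_free, Pi.natCast_apply, Nat.cast_id] at h1
  rw [h1]
  congr 1
  apply PrimeSpectrum.ext
  show (⊥ : Ideal (R ⧸ m)).comap (algebraMap R (R ⧸ m)) = m
  rw [Ideal.Quotient.algebraMap_eq, ← RingHom.ker_eq_comap_bot, Ideal.mk_ker]

theorem bijective_of_surjective {M : Type v} [AddCommGroup M] [Module R M] [Module.Finite R M] [Module.Projective R M]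
    {N : Type w} [AddCommGroup N] [Module R N] [Module.Finite R N] [Module.Projective R N]
    (f : M →ₗ[R] N) (hf : Function.Surjective f)
    (h : ∀ p : PrimeSpectrum R, Module.rankAtStalk (R := R) M p = Module.rankAtStalk (R := R) N p) : Function.Bijective f := by
  obtain ⟨s, hs⟩ := Module.projective_lifting_property f LinearMap.id hf
  have hsf : ∀ y, f (s y) = y := fun y => LinearMap.congr_fun hs y
  let K := LinearMap.ker f
  let ret : M →ₗ[R] K := (LinearMap.id - s ∘ₗ f).codRestrict K fun x => by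
    show f (x - s (f x)) = 0
    rw [map_sub, hsf, sub_self]
  have hret : ret ∘ₗ K.subtype = LinearMap.id := LinearMap.ext fun ⟨x, hx⟩ => Subtype.ext (by
    show x - s (f x) = x
    rw [show f x = 0 from hx, map_zero, sub_zero])
  have hretS : Function.Surjective ret := fun y => ⟨y, LinearMap.congr_fun hret y⟩
  haveI : Module.Finite R K := Module.Finite.of_surjective ret hretS
  haveI : Module.Projective R K := Module.Projective.of_split K.subtype ret hret
  let e : M ≃ₗ[R] K × N :=
    { ret.prod f with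
      invFun := fun kn => (kn.1 : M) + s kn.2
      left_inv := fun x => by show (x - s (f x)) + s (f x) = x; abel
      right_inv := fun kn => by
        refine Prod.ext (Subtype.ext ?_) ?_
        · show ((kn.1 : M) + s kn.2) - s (f ((kn.1 : M) + s kn.2)) = kn.1
          rw [map_add, show f (kn.1 : M) = 0 from kn.1.2, zero_add, hsf]; abel
        · show f ((kn.1 : M) + s kn.2) = kn.2
          rw [map_add, show f (kn.1 : M) = 0 from kn.1.2, zero_add, hsf] }
  have h0 : Module.rankAtStalk (R := R) K = 0 := funext fun p => by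
    have := congrFun (Module.rankAtStalk_eq_of_equiv e) p
    rw [Module.rankAtStalk_prod, Pi.add_apply, h p] at this
    simp only [Pi.zero_apply]; omega
  haveI : Subsingleton K := (Module.rankAtStalk_eq_zero_iff_subsingleton (R := R) (M := K)).mp h0
  refine ⟨(injective_iff_map_eq_zero f).mpr fun x hx => ?_, hf⟩
  exact congrArg Subtype.val (Subsingleton.elim (⟨x, hx⟩ : K) 0)

/-- a module map reaching a given surjection modulo `m` is surjective modulo `m` -/
theorem lift_mod (m : Ideal R) {M : Type v} [AddCommGroup M] [Module R M]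
    {N : Type w} [AddCommGroup N] [Module R N] (φ : M →ₗ[R] N)
    (h : ∀ y : N, ∃ x : M, (1 : R ⧸ m) ⊗ₜ[R] φ x = (1 : R ⧸ m) ⊗ₜ[R] y) :
    ⊤ ≤ LinearMap.range φ ⊔ m • (⊤ : Submodule R N) := by
  intro y _
  obtain ⟨x, hx⟩ := h y
  refine Submodule.mem_sup.mpr ⟨φ x, ⟨x, rfl⟩, y - φ x, mem_smul_top_of_tmul_eq_zero m ?_, by abel⟩
  rw [TensorProduct.tmul_sub, hx, sub_self]

theorem finite_hom (M : Type v) [AddCommGroup M] [Module R M] [Module.Finite R M] [Module.Projective R M]
    (N : Type w) [AddCommGroup N] [Module R N] [Module.Finite R N] : Module.Finite R (M →ₗ[R] N) := by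
  obtain ⟨k, π, hπ⟩ := Module.Finite.exists_fin' R M
  obtain ⟨σ, hσ⟩ := Module.projective_lifting_property π LinearMap.id hπ
  let Γ : (Fin k → N) →ₗ[R] (M →ₗ[R] N) := (LinearMap.lcomp R N σ) ∘ₗ (LinearMap.lsum R (fun _ : Fin k => R) R).toLinearMap ∘ₗ
    LinearMap.pi fun i => (LinearMap.ringLmapEquivSelf R R N).symm.toLinearMap ∘ₗ LinearMap.proj i
  refine Module.Finite.of_surjective Γ fun φ => ⟨fun i => φ (π (Pi.single i 1)), LinearMap.ext fun x => ?_⟩
  conv_rhs => rw [← show π (σ x) = x from LinearMap.congr_fun hσ x, pi_eq_sum_univ' (σ x), map_sum, map_sum]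
  simp [Γ, LinearMap.sum_apply]

theorem exists_surjective_of_rank (hR : LGRing.IsLGRing R) (M : Type v) [AddCommGroup M] [Module R M] [Module.Finite R M]
    [Module.Projective R M] (N : Type w) [AddCommGroup N] [Module R N] [Module.Finite R N] [Module.Projective R N]
    (h : ∀ (m : Ideal R) (hm : m.IsMaximal), Module.rankAtStalk (R := R) N ⟨m, hm.isPrime⟩ ≤ Module.rankAtStalk (R := R) M ⟨m, hm.isPrime⟩) :
    ∃ f : M →ₗ[R] N, Function.Surjective f := by
  classical
  haveI := finite_hom (R := R) M N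
  obtain ⟨K, hgen, hsurj⟩ := Module.Finite.exists_fin' R (M →ₗ[R] N)
  obtain ⟨x, hx⟩ := exists_surjective hR (fun l => hgen (Pi.single l 1)) fun m hm => by
    letI : Field (R ⧸ m) := Ideal.Quotient.field m
    let bM := Module.finBasis (R ⧸ m) ((R ⧸ m) ⊗[R] M)
    let bN := Module.finBasis (R ⧸ m) ((R ⧸ m) ⊗[R] N)
    have hle : Module.finrank (R ⧸ m) ((R ⧸ m) ⊗[R] N) ≤ Module.finrank (R ⧸ m) ((R ⧸ m) ⊗[R] M) := by
      rw [rank_quot, rank_quot]; exact h m hm
    let ψ : (R ⧸ m) ⊗[R] M →ₗ[R ⧸ m] (R ⧸ m) ⊗[R] N :=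
      bN.equivFun.symm.toLinearMap ∘ₗ LinearMap.funLeft (R ⧸ m) (R ⧸ m) (Fin.castLE hle) ∘ₗ bM.equivFun.toLinearMap
    have hψ : Function.Surjective ψ := bN.equivFun.symm.surjective.comp
      ((LinearMap.funLeft_surjective_of_injective (R := R ⧸ m) (M := R ⧸ m) (Fin.castLE hle) (Fin.castLE_injective hle)).comp bM.equivFun.surjective)
    obtain ⟨φ, hφ⟩ := Module.projective_lifting_property (TensorProduct.mk R (R ⧸ m) N 1)
      ((ψ.restrictScalars R) ∘ₗ TensorProduct.mk R (R ⧸ m) M 1)
      (TensorProduct.mk_surjective R N (R ⧸ m) Ideal.Quotient.mk_surjective)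
    obtain ⟨c, hc⟩ := hsurj φ
    refine ⟨c, ?_⟩
    rw [show ∑ l, c l • hgen (Pi.single l 1) = φ by rw [← hc]; simp only [← map_smul, ← map_sum]; congr 1; ext i; simp [Pi.single_apply]]
    refine lift_mod m φ fun y => ?_
    obtain ⟨z, hz⟩ := hψ ((1 : R ⧸ m) ⊗ₜ[R] y)
    obtain ⟨x, rfl⟩ := TensorProduct.mk_surjective R M (R ⧸ m) Ideal.Quotient.mk_surjective z
    exact ⟨x, (LinearMap.congr_fun hφ x).trans hz⟩
  exact ⟨_, hx⟩

theorem nonempty_equiv_of_rank (hR : LGRing.IsLGRing R) (M : Type v) [AddCommGroup M] [Module R M] [Module.Finite R M]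
    [Module.Projective R M] (N : Type w) [AddCommGroup N] [Module R N] [Module.Finite R N] [Module.Projective R N]
    (h : ∀ p : PrimeSpectrum R, Module.rankAtStalk (R := R) M p = Module.rankAtStalk (R := R) N p) :
    Nonempty (M ≃ₗ[R] N) := by
  obtain ⟨f, hf⟩ := exists_surjective_of_rank hR M N fun m hm => (h ⟨m, hm.isPrime⟩).ge
  exact ⟨LinearEquiv.ofBijective f (bijective_of_surjective f hf h)⟩

theorem rank_pos (M : Type v) [AddCommGroup M] [Module R M] [Module.Finite R M] [Module.Projective R M] [FaithfulSMul R M]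
    (p : PrimeSpectrum R) : 0 < Module.rankAtStalk (R := R) M p := by
  rw [Module.rankAtStalk_pos_iff_mem_support, Module.mem_support_iff_of_finite]
  intro c hc
  rw [Module.mem_annihilator] at hc
  have : c = 0 := eq_of_smul_eq_smul fun a : M => by rw [hc a, zero_smul]
  rw [this]; exact zero_mem _

theorem exists_unimodular (hR : LGRing.IsLGRing R) (M : Type v) [AddCommGroup M] [Module R M] [Module.Finite R M]
    [Module.Projective R M] [FaithfulSMul R M] : ∃ (m : M) (f : Module.Dual R M), f m = 1 := by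
  obtain ⟨f, hf⟩ := exists_surjective_of_rank hR M R fun m hm => by
    haveI : Nontrivial R := nontrivial_of_ne 1 0 fun h1 => hm.ne_top ((Ideal.eq_top_iff_one m).mpr (h1 ▸ m.zero_mem))
    rw [Module.rankAtStalk_self]
    exact rank_pos M _
  obtain ⟨m, hm⟩ := hf 1
  exact ⟨m, f, hm⟩

end Groth.Agent.LG8
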