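import Groth.Agent.LG8.Azumaya

set_option autoImplicit false
universe u v w v' w'

open scoped TensorProduct

namespace Groth.Agent.LG8

theorem tensorEnd_bijective (R : Type u) [CommRing R] (S : Type w) [CommRing S] [Algebra R S] (A : Type v) [AddCommGroup A]
    [Module R A] [Module.Finite R A] [Module.Projective R A] :
    Function.Bijective (LinearMap.tensorProductEnd R S A) := by
  obtain ⟨n, x, g, hg⟩ := CSA.Azumaya.exists_dualBasis R A
  have tensorProductEnd_tmul : ∀ (s : S) (f : Module.End R A),
      LinearMap.tensorProductEnd R S A (s ⊗ₜ[R] f) = s • f.baseChange S := fun _ _ => rfl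
  let T : Fin n → A →ₗ[R] Module.End R A := fun i => LinearMap.smulRightₗ (g i)
  let Ψ : Module.End S (S ⊗[R] A) →ₗ[S] S ⊗[R] Module.End R A :=
    ∑ i, (T i).baseChange S ∘ₗ LinearMap.applyₗ ((1 : S) ⊗ₜ[R] x i)
  have hΨ : ∀ F, Ψ F = ∑ i, (T i).baseChange S (F (1 ⊗ₜ[R] x i)) := fun F => by simp [Ψ]
  constructor
  · intro a b hab
    have key : ∀ ξ, Ψ (LinearMap.tensorProductEnd R S A ξ) = ξ := by
      intro ξ
      induction ξ using TensorProduct.induction_on with
      | zero => simp
      | tmul s f =>
        rw [hΨ]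
        have : ∀ i, (T i).baseChange S (LinearMap.tensorProductEnd R S A (s ⊗ₜ[R] f) (1 ⊗ₜ[R] x i))
            = s ⊗ₜ[R] ((g i).smulRight (f (x i))) := fun i => by
          rw [tensorProductEnd_tmul]; simp [T, TensorProduct.smul_tmul', LinearMap.smulRightₗ]
        simp only [this, ← TensorProduct.tmul_sum]
        congr 1
        ext a
        conv_rhs => rw [← hg a, map_sum]
        simp
      | add a b ha hb => rw [map_add, map_add, ha, hb]
    rw [← key a, ← key b, hab]
  · intro F
    refine ⟨Ψ F, ?_⟩
    refine TensorProduct.AlgebraTensorModule.ext fun s a => ?_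
    have key : ∀ i (y : S ⊗[R] A), LinearMap.tensorProductEnd R S A ((T i).baseChange S y)
        (s ⊗ₜ[R] a) = (g i a • s) • y := by
      intro i y
      induction y using TensorProduct.induction_on with
      | zero => simp
      | tmul t b =>
        rw [LinearMap.baseChange_tmul, tensorProductEnd_tmul]
        simp [T, LinearMap.smulRightₗ, TensorProduct.smul_tmul', TensorProduct.tmul_smul, mul_comm]
      | add u v hu hv => rw [map_add, map_add, LinearMap.add_apply, hu, hv, smul_add]
    rw [hΨ]
    simp only [map_sum, LinearMap.sum_apply, key]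
    have : s ⊗ₜ[R] a = ∑ i, (g i a • s) • ((1 : S) ⊗ₜ[R] x i) := by
      conv_lhs => rw [← hg a, TensorProduct.tmul_sum]
      refine Finset.sum_congr rfl fun i _ => ?_
      rw [TensorProduct.smul_tmul', TensorProduct.tmul_smul, smul_eq_mul, mul_one,
        TensorProduct.smul_tmul']
    conv_rhs => rw [this, map_sum]
    exact Finset.sum_congr rfl fun i _ => by rw [map_smul]

variable {R : Type u} [CommRing R]

theorem rank_end (P : Type v) [AddCommGroup P] [Module R P] [Module.Finite R P] [Module.Projective R P] (p : PrimeSpectrum R) :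
    Module.rankAtStalk (R := R) (Module.End R P) p = Module.rankAtStalk (R := R) P p * Module.rankAtStalk (R := R) P p := by
  haveI : Module.Projective R (Module.End R P) := .of_equiv (dualTensorHomEquiv R P P)
  haveI : Module.Finite R (Module.End R P) := .equiv (dualTensorHomEquiv R P P)
  rw [Module.rankAtStalk_eq, Module.rankAtStalk_eq]
  exact ((LinearEquiv.ofBijective _ (tensorEnd_bijective R p.asIdeal.ResidueField P) :
    p.asIdeal.ResidueField ⊗[R] Module.End R P ≃ₗ[p.asIdeal.ResidueField] _).finrank_eq).trans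
    (Module.finrank_linearMap _ _ _ _)

section Act

variable (R) (A : Type v) [Ring A] [Algebra R A] (P : Type w) [AddCommGroup P] [Module R P]

/-- left action of `A ⊗ End P` on `A ⊗ P` -/
noncomputable def act : A ⊗[R] Module.End R P →ₐ[R] Module.End R (A ⊗[R] P) :=
  Algebra.TensorProduct.lift ((Module.End.rTensorAlgHom R A P).comp (Algebra.lmul R A)) (Module.End.lTensorAlgHom R P A)
    fun a g => by
      show (Algebra.lmul R A a).rTensor P * g.lTensor A = g.lTensor A * (Algebra.lmul R A a).rTensor P
      refine TensorProduct.ext' fun x p => ?_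
      simp only [Module.End.mul_apply, LinearMap.lTensor_tmul, LinearMap.rTensor_tmul]

variable {A P}

theorem act_tmul (a : A) (g : Module.End R P) (x : A) (p : P) :
    act R A P (a ⊗ₜ[R] g) (x ⊗ₜ[R] p) = (a * x) ⊗ₜ[R] g p := by
  show (Algebra.lmul R A a).rTensor P (g.lTensor A (x ⊗ₜ[R] p)) = _
  rw [LinearMap.lTensor_tmul, LinearMap.rTensor_tmul]; rfl

/-- right multiplication on the algebra factor -/
noncomputable def rmul (a : A) : Module.End R (A ⊗[R] P) := (LinearMap.mulRight R a).rTensor P

theorem rmul_tmul (a x : A) (p : P) : rmul R a (x ⊗ₜ[R] p) = (x * a) ⊗ₜ[R] p := by simp [rmul]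

theorem rmul_act (a : A) (z : A ⊗[R] Module.End R P) (v : A ⊗[R] P) :
    rmul R a (act R A P z v) = act R A P z (rmul R a v) := by
  induction z using TensorProduct.induction_on with
  | zero => simp
  | tmul x g =>
    induction v using TensorProduct.induction_on with
    | zero => simp
    | tmul y p => rw [act_tmul, rmul_tmul, rmul_tmul, act_tmul, mul_assoc]
    | add v w hv hw => simp only [map_add, hv, hw]
  | add z z' hz hz' => simp only [map_add, LinearMap.add_apply, hz, hz']

/-- the section into the algebra attached to a functional -/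
noncomputable def sect (f : Module.Dual R P) : A ⊗[R] P →ₗ[R] A ⊗[R] Module.End R P :=
  (LinearMap.smulRightₗ (R := R) (M := P) (M₂ := P) f).lTensor A

theorem sect_tmul (f : Module.Dual R P) (x : A) (p : P) : sect R f (x ⊗ₜ[R] p) = x ⊗ₜ[R] f.smulRight p := by
  simp [sect, LinearMap.smulRightₗ]

theorem sect_act (f : Module.Dual R P) (z : A ⊗[R] Module.End R P) (v : A ⊗[R] P) :
    sect R f (act R A P z v) = z * sect R f v := by
  induction z using TensorProduct.induction_on with
  | zero => simp
  | tmul x g =>
    induction v using TensorProduct.induction_on with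
    | zero => simp
    | tmul y p =>
      rw [act_tmul, sect_tmul, sect_tmul, Algebra.TensorProduct.tmul_mul_tmul]
      congr 1
      refine LinearMap.ext fun q => ?_
      simp [Module.End.mul_apply]
    | add v w hv hw => simp only [map_add, hv, hw, mul_add]
  | add z z' hz hz' => simp only [map_add, LinearMap.add_apply, hz, hz', add_mul]

/-- evaluation at a vector -/
noncomputable def ev (p0 : P) : A ⊗[R] Module.End R P →ₗ[R] A ⊗[R] P := (LinearMap.applyₗ p0).lTensor A

theorem ev_tmul (p0 : P) (x : A) (g : Module.End R P) : ev R p0 (x ⊗ₜ[R] g) = x ⊗ₜ[R] g p0 := by simp [ev]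

theorem ev_mul (p0 : P) (z w : A ⊗[R] Module.End R P) : ev R p0 (z * w) = act R A P z (ev R p0 w) := by
  induction z using TensorProduct.induction_on with
  | zero => simp
  | tmul x g =>
    induction w using TensorProduct.induction_on with
    | zero => simp
    | tmul y h => rw [Algebra.TensorProduct.tmul_mul_tmul, ev_tmul, ev_tmul, act_tmul, Module.End.mul_apply]
    | add v w hv hw => simp only [map_add, mul_add, hv, hw]
  | add z z' hz hz' => simp only [map_add, LinearMap.add_apply, add_mul, hz, hz']

theorem ev_sect (f : Module.Dual R P) (p0 : P) (h : f p0 = 1) (v : A ⊗[R] P) : ev R p0 (sect R f v) = v := by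
  induction v using TensorProduct.induction_on with
  | zero => simp
  | tmul y p => rw [sect_tmul, ev_tmul]; simp [h]
  | add v w hv hw => simp only [map_add, hv, hw]

/-- contraction with a functional -/
noncomputable def contract (f : Module.Dual R P) : A ⊗[R] P →ₗ[R] A :=
  (TensorProduct.rid R A).toLinearMap ∘ₗ f.lTensor A

theorem contract_rmul (f : Module.Dual R P) (p0 : P) (h : f p0 = 1) (a : A) :
    contract R f (rmul R a ((1 : A) ⊗ₜ[R] p0)) = a := by
  simp [contract, rmul_tmul, h]

theorem eq_rmul (f : Module.Dual R P) (p0 : P) (h : f p0 = 1) (T : Module.End R (A ⊗[R] P))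
    (hT : ∀ z v, T (act R A P z v) = act R A P z (T v)) : T = rmul R (contract R f (T ((1 : A) ⊗ₜ[R] p0))) := by
  refine TensorProduct.ext' fun x q => ?_
  have hxq : act R A P (x ⊗ₜ[R] f.smulRight q) ((1 : A) ⊗ₜ[R] p0) = x ⊗ₜ[R] q := by
    rw [act_tmul, mul_one, LinearMap.smulRight_apply, h, one_smul]
  rw [rmul_tmul]
  conv_lhs => rw [← hxq, hT]
  generalize T ((1 : A) ⊗ₜ[R] p0) = w
  induction w using TensorProduct.induction_on with
  | zero => simp
  | tmul y r =>
    rw [act_tmul, LinearMap.smulRight_apply]
    simp [contract, TensorProduct.tmul_smul, TensorProduct.smul_tmul']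
  | add v w hv hw => simp only [map_add, mul_add, TensorProduct.add_tmul, hv, hw]

theorem rmul_mul (a b : A) (v : A ⊗[R] P) : rmul R (a * b) v = rmul R b (rmul R a v) := by
  induction v using TensorProduct.induction_on with
  | zero => simp
  | tmul y p => rw [rmul_tmul, rmul_tmul, rmul_tmul, mul_assoc]
  | add v w hv hw => simp only [map_add, hv, hw]

end Act

theorem nonempty_algEquiv_of_semilinear (A : Type v) [Ring A] [Algebra R A] (P : Type w) [AddCommGroup P] [Module R P]
    (B : Type v') [Ring B] [Algebra R B] (Q : Type w') [AddCommGroup Q] [Module R Q]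
    (e : A ⊗[R] Module.End R P ≃ₐ[R] B ⊗[R] Module.End R Q)
    (hP : ∃ (p : P) (f : Module.Dual R P), f p = 1) (hQ : ∃ (q : Q) (g : Module.Dual R Q), g q = 1)
    (θ : A ⊗[R] P ≃ₗ[R] B ⊗[R] Q) (hθ : ∀ z v, θ (act R A P z v) = act R B Q (e z) (θ v)) :
    Nonempty (A ≃ₐ[R] B) := by
  obtain ⟨p0, f0, hf⟩ := hP
  obtain ⟨q0, g0, hg⟩ := hQ
  have hθ' : ∀ w v, θ.symm (act R B Q w v) = act R A P (e.symm w) (θ.symm v) := fun w v =>
    θ.injective (by rw [θ.apply_symm_apply, hθ, e.apply_symm_apply, θ.apply_symm_apply])
  let Φ : A → B := fun a => contract R g0 (θ (rmul R a (θ.symm ((1 : B) ⊗ₜ[R] q0))))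
  let Ψ : B → A := fun b => contract R f0 (θ.symm (rmul R b (θ ((1 : A) ⊗ₜ[R] p0))))
  have hΦ : ∀ a v, rmul R (Φ a) v = θ (rmul R a (θ.symm v)) := fun a v => by
    have := eq_rmul R g0 q0 hg (θ.toLinearMap ∘ₗ rmul R a ∘ₗ θ.symm.toLinearMap) fun z u => by
      simp only [LinearMap.comp_apply, LinearEquiv.coe_coe]
      rw [hθ', rmul_act, hθ, e.apply_symm_apply]
    exact (LinearMap.congr_fun this v).symm
  have hΨ : ∀ b v, rmul R (Ψ b) v = θ.symm (rmul R b (θ v)) := fun b v => by
    have := eq_rmul R f0 p0 hf (θ.symm.toLinearMap ∘ₗ rmul R b ∘ₗ θ.toLinearMap) fun z u => by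
      simp only [LinearMap.comp_apply, LinearEquiv.coe_coe]
      rw [hθ, rmul_act, hθ', e.symm_apply_apply]
    exact (LinearMap.congr_fun this v).symm
  have injB : ∀ b b' : B, (∀ v : B ⊗[R] Q, rmul R b v = rmul R b' v) → b = b' := fun b b' h => by
    rw [← contract_rmul R g0 q0 hg b, h, contract_rmul R g0 q0 hg]
  have injA : ∀ a a' : A, (∀ v : A ⊗[R] P, rmul R a v = rmul R a' v) → a = a' := fun a a' h => by
    rw [← contract_rmul R f0 p0 hf a, h, contract_rmul R f0 p0 hf]
  refine ⟨{ toFun := Φ, invFun := Ψ, left_inv := fun a => injA _ _ fun v => ?_, right_inv := fun b => injB _ _ fun v => ?_,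
            map_mul' := fun a a' => injB _ _ fun v => ?_, map_add' := fun a a' => injB _ _ fun v => ?_,
            commutes' := fun r => injB _ _ fun v => ?_ }⟩
  · rw [hΨ, hΦ, θ.symm_apply_apply, θ.symm_apply_apply]
  · rw [hΦ, hΨ, θ.apply_symm_apply, θ.apply_symm_apply]
  · rw [hΦ, rmul_mul, rmul_mul, hΦ, hΦ, θ.symm_apply_apply]
  · show rmul R (Φ (a + a')) v = rmul R (Φ a + Φ a') v
    have hadd : ∀ (C : Type v') [Ring C] [Algebra R C] (c c' : C) (u : C ⊗[R] Q), rmul R (c + c') u = rmul R c u + rmul R c' u := by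
      intro C _ _ c c' u
      induction u using TensorProduct.induction_on with
      | zero => simp
      | tmul y p => simp [rmul_tmul, mul_add, TensorProduct.add_tmul]
      | add v w hv hw => simp only [map_add, hv, hw]; abel
    have haddA : ∀ (u : A ⊗[R] P), rmul R (a + a') u = rmul R a u + rmul R a' u := by
      intro u
      induction u using TensorProduct.induction_on with
      | zero => simp
      | tmul y p => simp [rmul_tmul, mul_add, TensorProduct.add_tmul]
      | add v w hv hw => simp only [map_add, hv, hw]; abel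
    rw [hadd B, hΦ, haddA, map_add, hΦ, hΦ]
  · show rmul R (Φ (algebraMap R A r)) v = rmul R (algebraMap R B r) v
    rw [hΦ]
    have hA : ∀ u : A ⊗[R] P, rmul R (algebraMap R A r) u = r • u := fun u => by
      induction u using TensorProduct.induction_on with
      | zero => simp
      | tmul y p => rw [rmul_tmul, ← Algebra.commutes, ← Algebra.smul_def, TensorProduct.smul_tmul']
      | add v w hv hw => simp only [map_add, hv, hw, smul_add]
    have hB : ∀ u : B ⊗[R] Q, rmul R (algebraMap R B r) u = r • u := fun u => by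
      induction u using TensorProduct.induction_on with
      | zero => simp
      | tmul y p => rw [rmul_tmul, ← Algebra.commutes, ← Algebra.smul_def, TensorProduct.smul_tmul']
      | add v w hv hw => simp only [map_add, hv, hw, smul_add]
    rw [hA, hB, map_smul, θ.apply_symm_apply]

theorem iso_of_brauer (hR : LGRing.IsLGRing R) (A : Type v) [Ring A] [Algebra R A] [IsAzumaya R A]
    (B : Type v') [Ring B] [Algebra R B] [IsAzumaya R B]
    (hdeg : ∀ p : PrimeSpectrum R, Module.rankAtStalk (R := R) A p = Module.rankAtStalk (R := R) B p)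
    (P : Type w) [AddCommGroup P] [Module R P] [Module.Finite R P] [Module.Projective R P] [FaithfulSMul R P]
    (Q : Type w') [AddCommGroup Q] [Module R Q] [Module.Finite R Q] [Module.Projective R Q] [FaithfulSMul R Q]
    (e : A ⊗[R] Module.End R P ≃ₐ[R] B ⊗[R] Module.End R Q) : Nonempty (A ≃ₐ[R] B) := by
  haveI := CSA.Azumaya.moduleEnd R Q
  haveI := CSA.Azumaya.moduleEnd R P
  haveI : IsAzumaya R (B ⊗[R] Module.End R Q) := CSA.Azumaya.tensorProduct R B (Module.End R Q)
  obtain ⟨p0, f0, hf⟩ := exists_unimodular hR P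
  obtain ⟨q0, g0, hg⟩ := exists_unimodular hR Q
  let C := B ⊗[R] Module.End R Q
  letI modA : Module C (A ⊗[R] P) := Module.compHom (A ⊗[R] P) ((act R A P).comp e.symm.toAlgHom).toRingHom
  letI modB : Module C (B ⊗[R] Q) := Module.compHom (B ⊗[R] Q) (act R B Q).toRingHom
  haveI : IsScalarTower R C (A ⊗[R] P) := ⟨fun r c v => by
    show act R A P (e.symm (r • c)) v = r • act R A P (e.symm c) v
    rw [map_smul, map_smul]; rfl⟩
  haveI : IsScalarTower R C (B ⊗[R] Q) := ⟨fun r c v => by
    show act R B Q (r • c) v = r • act R B Q c v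
    rw [map_smul]; rfl⟩
  let iA : (A ⊗[R] P) →ₗ[C] C :=
    { toFun := fun v => e (sect R f0 v)
      map_add' := fun v v' => by rw [map_add, map_add]
      map_smul' := fun c v => by
        show e (sect R f0 (act R A P (e.symm c) v)) = c * e (sect R f0 v)
        rw [sect_act, map_mul, e.apply_symm_apply] }
  let rA : C →ₗ[C] (A ⊗[R] P) :=
    { toFun := fun c => ev R p0 (e.symm c)
      map_add' := fun v v' => by rw [map_add, map_add]
      map_smul' := fun c v => by
        show ev R p0 (e.symm (c * v)) = act R A P (e.symm c) (ev R p0 (e.symm v))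
        rw [map_mul, ev_mul] }
  let iB : (B ⊗[R] Q) →ₗ[C] C :=
    { toFun := sect R g0, map_add' := map_add _, map_smul' := fun c v => sect_act R g0 c v }
  let rB : C →ₗ[C] (B ⊗[R] Q) :=
    { toFun := ev R q0, map_add' := map_add _, map_smul' := fun c v => ev_mul R q0 c v }
  have hA : rA ∘ₗ iA = LinearMap.id := LinearMap.ext fun v => by
    show ev R p0 (e.symm (e (sect R f0 v))) = v
    rw [e.symm_apply_apply, ev_sect R f0 p0 hf]
  have hB : rB ∘ₗ iB = LinearMap.id := LinearMap.ext fun v => ev_sect R g0 q0 hg v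
  haveI : Module.Projective C (A ⊗[R] P) := Module.Projective.of_split iA rA hA
  haveI : Module.Projective C (B ⊗[R] Q) := Module.Projective.of_split iB rB hB
  haveI : Module.Finite C (A ⊗[R] P) := Module.Finite.of_surjective rA fun v => ⟨iA v, LinearMap.congr_fun hA v⟩
  haveI : Module.Finite C (B ⊗[R] Q) := Module.Finite.of_surjective rB fun v => ⟨iB v, LinearMap.congr_fun hB v⟩
  have hrank : ∀ p : PrimeSpectrum R, Module.rankAtStalk (R := R) (A ⊗[R] P) p = Module.rankAtStalk (R := R) (B ⊗[R] Q) p := by
    intro p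
    have h := congrFun (Module.rankAtStalk_eq_of_equiv e.toLinearEquiv) p
    simp only [Module.rankAtStalk_tensorProduct, Pi.mul_apply, rank_end, hdeg p] at h ⊢
    rw [Nat.mul_self_inj.mp (Nat.eq_of_mul_eq_mul_left (rank_pos B p) h)]
  obtain ⟨f, hfs⟩ := exists_linear_surjective hR C (A ⊗[R] P) (B ⊗[R] Q) fun m hm => (hrank _).ge
  have hbij := bijective_of_surjective (f.restrictScalars R) hfs hrank
  refine nonempty_algEquiv_of_semilinear A P B Q e ⟨p0, f0, hf⟩ ⟨q0, g0, hg⟩ (LinearEquiv.ofBijective (f.restrictScalars R) hbij) fun z v => ?_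
  show f (act R A P z v) = act R B Q (e z) (f v)
  have := f.map_smul (e z) v
  change f (act R A P (e.symm (e z)) v) = act R B Q (e z) (f v) at this
  rwa [e.symm_apply_apply] at this

end Groth.Agent.LG8
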