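import Groth.Agent.LG8.Basic

set_option autoImplicit false
universe u v w

namespace Groth.Agent.LG8

open SymmetricAlgebra

variable {R : Type u} [CommRing R]

section
variable (D : Type v) [AddCommGroup D] [Module R D] {k : ℕ}

/-- pairing with a coefficient vector through a section -/
noncomputable def phi {S : Type w} [CommRing S] [Algebra R S] (σ : D →ₗ[R] (Fin k → R)) (x : Fin k → S) : D →ₗ[R] S :=
  ∑ i, ((LinearMap.proj i).comp σ).smulRight (x i)

theorem phi_apply {S : Type w} [CommRing S] [Algebra R S] (σ : D →ₗ[R] (Fin k → R)) (x : Fin k → S) (d : D) :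
    phi D σ x d = ∑ i, σ d i • x i := by simp [phi, LinearMap.sum_apply]

theorem comp_phi {S : Type w} [CommRing S] [Algebra R S] {T : Type*} [CommRing T] [Algebra R T]
    (g : S →ₐ[R] T) (σ : D →ₗ[R] (Fin k → R)) (x : Fin k → S) :
    g.comp (SymmetricAlgebra.lift (phi D σ x)) = SymmetricAlgebra.lift (phi D σ fun i => g (x i)) := by
  apply SymmetricAlgebra.algHom_ext
  refine LinearMap.ext fun d => ?_
  simp [phi_apply]

theorem eval_lift (σ : D →ₗ[R] (Fin k → R)) (x : Fin k → R) (f : SymmetricAlgebra R D) :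
    MvPolynomial.eval x (SymmetricAlgebra.lift (phi D σ (MvPolynomial.X (R := R))) f) = SymmetricAlgebra.lift (phi D σ x) f := by
  have h := AlgHom.congr_fun (comp_phi D (MvPolynomial.aeval x) σ (MvPolynomial.X (R := R))) f
  simp only [AlgHom.comp_apply, MvPolynomial.aeval_X] at h
  rw [← h, MvPolynomial.aeval_eq_eval]

end

theorem exists_point (hR : LGRing.IsLGRing R) (D : Type v) [AddCommGroup D] [Module R D] [Module.Finite R D]
    [Module.Projective R D] (t : Finset (SymmetricAlgebra R D))
    (h : ∀ (m : Ideal R) [m.IsMaximal], ∃ φ : D →ₗ[R] R ⧸ m, ∃ f ∈ t, SymmetricAlgebra.lift φ f ≠ 0) :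
    ∃ φ : D →ₗ[R] R, Ideal.span (Set.range fun f : {f // f ∈ t} => SymmetricAlgebra.lift φ f.1) = ⊤ := by
  obtain ⟨k, μ, hμ⟩ := Module.Finite.exists_fin' R D
  obtain ⟨σ, hσ⟩ := Module.projective_lifting_property μ LinearMap.id hμ
  obtain ⟨x, hx⟩ := exists_span hR (fun f : {f // f ∈ t} => SymmetricAlgebra.lift (phi D σ (MvPolynomial.X (R := R))) f.1) fun m hm => by
    obtain ⟨φ, f, hf, hne⟩ := h m
    choose x hx using fun i => Ideal.Quotient.mk_surjective (I := m) (φ (μ (Pi.single i 1)))
    refine ⟨x, ⟨f, hf⟩, fun h0 => hne ?_⟩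
    rw [eval_lift] at h0
    have e : φ = phi D σ fun i => Ideal.Quotient.mkₐ R m (x i) := LinearMap.ext fun d => by
      rw [phi_apply]
      simp only [Ideal.Quotient.mkₐ_eq_mk, hx, ← map_smul, ← map_sum]
      rw [show (∑ i, σ d i • Pi.single i (1 : R)) = σ d from (pi_eq_sum_univ' (σ d)).symm]
      exact congrArg φ (LinearMap.congr_fun hσ d).symm
    rw [e, ← comp_phi, AlgHom.comp_apply]
    exact Ideal.Quotient.eq_zero_iff_mem.mpr h0
  simp only [eval_lift] at hx
  exact ⟨_, hx⟩

theorem exists_residue (D : Type v) [AddCommGroup D] [Module R D] [Module.Finite R D]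
    [Module.Projective R D] (m : Ideal R) [m.IsMaximal] (hinf : Infinite (R ⧸ m)) (f : SymmetricAlgebra R D)
    (hf : f ∉ Ideal.map (algebraMap R (SymmetricAlgebra R D)) m) :
    ∃ φ : D →ₗ[R] R ⧸ m, SymmetricAlgebra.lift φ f ≠ 0 := by
  letI : Field (R ⧸ m) := Ideal.Quotient.field m
  obtain ⟨k, μ, hμ⟩ := Module.Finite.exists_fin' R D
  obtain ⟨σ, hσ⟩ := Module.projective_lifting_property μ LinearMap.id hμ
  let P := SymmetricAlgebra.lift (phi D σ (MvPolynomial.X (R := R)))
  let p : MvPolynomial (Fin k) R →ₐ[R] SymmetricAlgebra R D := MvPolynomial.aeval fun i => ι R D (μ (Pi.single i 1))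
  have hp : p.comp P = AlgHom.id R _ := by
    apply SymmetricAlgebra.algHom_ext
    refine LinearMap.ext fun d => ?_
    show p (P (ι R D d)) = ι R D d
    simp only [P, lift_ι_apply, phi_apply, map_sum, map_smul, p, MvPolynomial.aeval_X]
    simp only [← map_smul, ← map_sum]
    rw [show (∑ i, σ d i • Pi.single i (1 : R)) = σ d from (pi_eq_sum_univ' (σ d)).symm]
    exact congrArg (ι R D) (LinearMap.congr_fun hσ d)
  by_cases h0 : MvPolynomial.map (Ideal.Quotient.mk m) (P f) = 0
  · refine absurd ?_ hf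
    have hmem : P f ∈ Ideal.map (MvPolynomial.C : R →+* MvPolynomial (Fin k) R) m := by
      rw [MvPolynomial.mem_map_C_iff]
      intro c
      have := congrArg (MvPolynomial.coeff c) h0
      rw [MvPolynomial.coeff_map, MvPolynomial.coeff_zero] at this
      exact Ideal.Quotient.eq_zero_iff_mem.mp this
    have := Ideal.mem_map_of_mem p.toRingHom hmem
    rw [Ideal.map_map] at this
    rw [show p.toRingHom.comp MvPolynomial.C = algebraMap R (SymmetricAlgebra R D) from
      RingHom.ext fun r => p.commutes r] at this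
    rwa [show p.toRingHom (P f) = f from AlgHom.congr_fun hp f] at this
  · obtain ⟨x, hx⟩ : ∃ x, MvPolynomial.eval x (MvPolynomial.map (Ideal.Quotient.mk m) (P f)) ≠ 0 := by
      by_contra hall
      simp only [not_exists, not_not] at hall
      exact h0 (MvPolynomial.funext fun x => by rw [hall x, map_zero])
    refine ⟨phi D σ x, fun he => hx ?_⟩
    rw [← he, MvPolynomial.eval_map]
    have h := AlgHom.congr_fun (comp_phi D (MvPolynomial.aeval x : MvPolynomial (Fin k) R →ₐ[R] R ⧸ m) σ (MvPolynomial.X (R := R))) f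
    simp only [AlgHom.comp_apply, MvPolynomial.aeval_X] at h
    rw [← h, MvPolynomial.aeval_def, Ideal.Quotient.algebraMap_eq]

end Groth.Agent.LG8
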